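import Cfsg.Agent.SP.Mon.Cert.N3A_m3
import Cfsg.Agent.TAB.M5.Loc_m3
import Cfsg.Agent.SB.SporB.Inst
import Cfsg.Agent.H849.FourModel_m3
import Cfsg.Agent.KFacts.Mult.TwESixTwo
import Cfsg.Agent.FastGrp
import Cfsg.Agent.Prune
set_option linter.all false
prune_inst 0x7f00000000000000000000000000000000000000000000000000000000000000000000000000000000000000000000000000000000000000000000000000000000000000000000000000000000000000003fffffffffffffffffffffffffffbeffbdffffffff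
open scoped Cfsg.Agent.FastGrp

/-! # S5755, the Monster: box `N2A2`

Two conjugates of a `2A`-pure four-group generate `C(zz)` modulo `Q`; the intersection of the normalisers is `⟨zz⟩`. -/

set_option autoImplicit false
set_option maxRecDepth 100000
set_option linter.style.haveILetI false

namespace Cfsg.Agent.SP.Mon.Cert.N2A2

open Subgroup Cfsg
open Cfsg.Agent.MonsterX Cfsg.Agent.MonsterU.Lam2
open Cfsg.Agent.BpSpor.MBigModel (MG zz chart)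
open Cfsg.Agent.H995.CopEngine (AllKnown)
open Cfsg.Agent.SporadicStructure.Co0Matrix Cfsg.Agent.CoOneType.CoEval
open Cfsg.Agent.H849.FourGroup (Data mem_cent)
open Cfsg.Agent.R2.H10.Mon.TwoA (IsA isA_of_ta afacts_model)
open Cfsg.Agent.TAB.M4 (gw gw_comm trw chr_gw chr_zz)
open Cfsg.Spor (Co1)

/-- rows -/
def rS : List (List ℤ) := [
  [1, -5, 3, -1, -1, 1, -1, -1, -1, -1, -3, 1, -1, -1, 1, -1, 1, 1, -1, -1, -1, 1, -1, -1],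
  [-3, -1, -1, -1, -1, -3, -1, -1, 3, -1, 1, 1, -1, -1, 1, -1, 1, 1, -1, -1, -1, -3, 3, -1],
  [1, -1, -1, -1, 3, 1, -1, -1, -1, -1, 1, -3, -1, -1, 1, -1, 1, 1, 3, -1, 3, 1, 3, -1],
  [1, -1, -1, -1, 3, 1, -1, -1, 3, -1, 1, 1, -1, -1, 1, -1, 1, -3, -1, 3, -1, 1, -1, 3],
  [1, -1, -1, -1, -1, -3, -1, -1, -1, 3, 1, -3, 3, -1, 1, -1, 1, -3, -1, -1, -1, 1, -1, -1],
  [1, -1, -1, -1, -1, 1, 3, 3, 3, -1, 1, -3, -1, -1, 1, 3, 1, 1, -1, -1, -1, 1, -1, -1],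
  [-3, -1, -1, -1, -1, 1, 3, -1, -1, -1, 1, 1, -1, -1, 1, -1, -3, -3, 3, -1, -1, 1, -1, -1],
  [3, 1, 1, 1, 1, -1, 1, 1, 1, -3, -1, -1, 1, 1, -1, -3, -1, -1, 1, 1, -3, -1, 1, -3],
  [1, 3, 3, -1, -1, 1, -1, -1, -1, -1, 5, 1, -1, -1, 1, -1, 1, 1, -1, -1, -1, 1, -1, -1],
  [-1, 1, 1, -3, 1, -1, 1, 1, -3, -3, -1, -1, 1, 1, 3, 1, -1, -1, -3, 1, 1, -1, 1, 1],
  [-1, 1, 1, 1, 1, -1, 1, 1, 1, 1, -1, -1, -3, 1, -1, -3, -1, -1, -3, -3, 1, 3, 1, 1],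
  [-1, 1, 1, -3, 1, -1, 1, 1, 1, 1, -1, -1, 1, -3, -1, -3, -1, 3, 1, 1, 1, -1, -3, 1],
  [1, 3, -5, -1, -1, 1, -1, -1, -1, -1, -3, 1, -1, -1, 1, -1, 1, 1, -1, -1, -1, 1, -1, -1],
  [-1, 1, 1, 1, -3, 3, 1, 1, 1, 1, -1, -1, 1, 1, 3, -3, 3, -1, 1, 1, 1, -1, 1, 1],
  [-1, 1, 1, 1, -3, -1, -3, 1, 1, -3, -1, -1, 1, -3, -1, 1, -1, -1, 1, 1, 1, 3, 1, 1],
  [-1, 1, 1, 1, 1, -1, 1, -3, 1, 1, -1, -1, 1, 1, 3, 1, -1, 3, 1, 1, -3, 3, 1, 1],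
  [3, 1, 1, 1, 1, -1, 1, 1, 1, 1, -1, 3, 1, -3, 3, 1, -1, -1, 1, -3, 1, -1, 1, 1],
  [-1, 1, 1, -3, 1, -1, 1, 1, 1, 1, -1, 3, 1, 1, -1, 1, 3, -1, 1, 1, 1, 3, 1, -3],
  [-1, 1, 1, 1, 1, -1, 1, -3, 1, -3, -1, -1, 1, 1, -1, 1, 3, -1, 1, -3, 1, -1, -3, 1],
  [1, -1, -1, -1, -1, -3, -1, 3, -1, -1, 1, 1, -1, 3, 1, -1, 1, 1, 3, -1, -1, 1, -1, 3],
  [-1, 1, 1, 1, 1, -1, 1, 1, -3, 1, -1, -1, -3, -3, -1, 1, 3, -1, 1, 1, -3, -1, 1, 1],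
  [-1, 1, 1, -3, 1, 3, -3, 1, 1, 1, -1, -1, 1, 1, -1, 1, -1, -1, 1, -3, -3, -1, 1, 1],
  [-3, -1, -1, 3, 3, 1, -1, 3, -1, -1, 1, 1, 3, -1, 1, -1, 1, 1, -1, -1, -1, 1, -1, -1],
  [1, -1, -1, -1, -1, 1, 3, -1, -1, -1, 1, 1, 3, -1, -3, -1, 1, 1, -1, -1, -1, 1, 3, 3]]

/-- columns -/
def cS : List (List ℤ) := [
  [1, -3, 1, 1, 1, 1, -3, 3, 1, -1, -1, -1, 1, -1, -1, -1, 3, -1, -1, 1, -1, -1, -3, 1],
  [-5, -1, -1, -1, -1, -1, -1, 1, 3, 1, 1, 1, 3, 1, 1, 1, 1, 1, 1, -1, 1, 1, -1, -1],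
  [3, -1, -1, -1, -1, -1, -1, 1, 3, 1, 1, 1, -5, 1, 1, 1, 1, 1, 1, -1, 1, 1, -1, -1],
  [-1, -1, -1, -1, -1, -1, -1, 1, -1, -3, 1, -3, -1, 1, 1, 1, 1, -3, 1, -1, 1, -3, 3, -1],
  [-1, -1, 3, 3, -1, -1, -1, 1, -1, 1, 1, 1, -1, -3, -3, 1, 1, 1, 1, -1, 1, 1, 3, -1],
  [1, -3, 1, 1, -3, 1, 1, -1, 1, -1, -1, -1, 1, 3, -1, -1, -1, -1, -1, -3, -1, 3, 1, 1],
  [-1, -1, -1, -1, -1, 3, 3, 1, -1, 1, 1, 1, -1, 1, -3, 1, 1, 1, 1, -1, 1, -3, -1, 3],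
  [-1, -1, -1, -1, -1, 3, -1, 1, -1, 1, 1, 1, -1, 1, 1, -3, 1, 1, -3, 3, 1, 1, 3, -1],
  [-1, 3, -1, 3, -1, 3, -1, 1, -1, -3, 1, 1, -1, 1, 1, 1, 1, 1, 1, -1, -3, 1, -1, -1],
  [-1, -1, -1, -1, 3, -1, -1, -3, -1, -3, 1, 1, -1, 1, -3, 1, 1, 1, -3, -1, 1, 1, -1, -1],
  [-3, 1, 1, 1, 1, 1, 1, -1, 5, -1, -1, -1, -3, -1, -1, -1, -1, -1, -1, 1, -1, -1, 1, 1],
  [1, 1, -3, 1, -3, -3, 1, -1, 1, -1, -1, -1, 1, -1, -1, -1, 3, 3, -1, 1, -1, -1, 1, 1],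
  [-1, -1, -1, -1, 3, -1, -1, 1, -1, 1, -3, 1, -1, 1, 1, 1, 1, 1, 1, -1, -3, 1, 3, 3],
  [-1, -1, -1, -1, -1, -1, -1, 1, -1, 1, 1, -3, -1, 1, -3, 1, -3, 1, 1, 3, -3, 1, -1, -1],
  [1, 1, 1, 1, 1, 1, 1, -1, 1, 3, -1, -1, 1, 3, -1, 3, 3, -1, -1, 1, -1, -1, 1, -3],
  [-1, -1, -1, -1, -1, 3, -1, -3, -1, 1, -3, -3, -1, -3, 1, 1, 1, 1, 1, -1, 1, 1, -1, -1],
  [1, 1, 1, 1, 1, 1, -3, -1, 1, -1, -1, -1, 1, 3, -1, -1, -1, 3, 3, 1, 3, -1, 1, 1],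
  [1, 1, 1, -3, -3, 1, -3, -1, 1, -1, -1, 3, 1, -1, -1, 3, -1, -1, -1, 1, -1, -1, 1, 1],
  [-1, -1, 3, -1, -1, -1, 3, 1, -1, -3, -3, 1, -1, 1, 1, 1, 1, 1, 1, 3, 1, 1, -1, -1],
  [-1, -1, -1, 3, -1, -1, -1, 1, -1, 1, -3, 1, -1, 1, 1, 1, -3, 1, -3, -1, 1, -3, -1, -1],
  [-1, -1, 3, -1, -1, -1, -1, -3, -1, 1, 1, 1, -1, 1, 1, -3, 1, 1, 1, -1, -3, -3, -1, -1],
  [1, -3, 1, 1, 1, 1, 1, -1, 1, -1, 3, -1, 1, -1, 3, 3, -1, 3, -1, 1, -1, -1, 1, 1],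
  [-1, 3, 3, -1, -1, -1, -1, 1, -1, 1, 1, -3, -1, 1, 1, 1, 1, 1, -3, -1, 1, 1, -1, 3],
  [-1, -1, -1, 3, -1, -1, -1, -3, -1, 1, 1, 1, -1, 1, 1, 1, 1, -3, 1, 3, 1, 1, -1, 3]]

/-- first sign change -/
def rA : List (List ℤ) := [
  [-8, 0, 0, 0, 0, 0, 0, 0, 0, 0, 0, 0, 0, 0, 0, 0, 0, 0, 0, 0, 0, 0, 0, 0],
  [0, 8, 0, 0, 0, 0, 0, 0, 0, 0, 0, 0, 0, 0, 0, 0, 0, 0, 0, 0, 0, 0, 0, 0],
  [0, 0, 8, 0, 0, 0, 0, 0, 0, 0, 0, 0, 0, 0, 0, 0, 0, 0, 0, 0, 0, 0, 0, 0],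
  [0, 0, 0, 8, 0, 0, 0, 0, 0, 0, 0, 0, 0, 0, 0, 0, 0, 0, 0, 0, 0, 0, 0, 0],
  [0, 0, 0, 0, 8, 0, 0, 0, 0, 0, 0, 0, 0, 0, 0, 0, 0, 0, 0, 0, 0, 0, 0, 0],
  [0, 0, 0, 0, 0, 8, 0, 0, 0, 0, 0, 0, 0, 0, 0, 0, 0, 0, 0, 0, 0, 0, 0, 0],
  [0, 0, 0, 0, 0, 0, 8, 0, 0, 0, 0, 0, 0, 0, 0, 0, 0, 0, 0, 0, 0, 0, 0, 0],
  [0, 0, 0, 0, 0, 0, 0, 8, 0, 0, 0, 0, 0, 0, 0, 0, 0, 0, 0, 0, 0, 0, 0, 0],
  [0, 0, 0, 0, 0, 0, 0, 0, 8, 0, 0, 0, 0, 0, 0, 0, 0, 0, 0, 0, 0, 0, 0, 0],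
  [0, 0, 0, 0, 0, 0, 0, 0, 0, 8, 0, 0, 0, 0, 0, 0, 0, 0, 0, 0, 0, 0, 0, 0],
  [0, 0, 0, 0, 0, 0, 0, 0, 0, 0, 8, 0, 0, 0, 0, 0, 0, 0, 0, 0, 0, 0, 0, 0],
  [0, 0, 0, 0, 0, 0, 0, 0, 0, 0, 0, -8, 0, 0, 0, 0, 0, 0, 0, 0, 0, 0, 0, 0],
  [0, 0, 0, 0, 0, 0, 0, 0, 0, 0, 0, 0, -8, 0, 0, 0, 0, 0, 0, 0, 0, 0, 0, 0],
  [0, 0, 0, 0, 0, 0, 0, 0, 0, 0, 0, 0, 0, -8, 0, 0, 0, 0, 0, 0, 0, 0, 0, 0],
  [0, 0, 0, 0, 0, 0, 0, 0, 0, 0, 0, 0, 0, 0, -8, 0, 0, 0, 0, 0, 0, 0, 0, 0],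
  [0, 0, 0, 0, 0, 0, 0, 0, 0, 0, 0, 0, 0, 0, 0, -8, 0, 0, 0, 0, 0, 0, 0, 0],
  [0, 0, 0, 0, 0, 0, 0, 0, 0, 0, 0, 0, 0, 0, 0, 0, 8, 0, 0, 0, 0, 0, 0, 0],
  [0, 0, 0, 0, 0, 0, 0, 0, 0, 0, 0, 0, 0, 0, 0, 0, 0, 8, 0, 0, 0, 0, 0, 0],
  [0, 0, 0, 0, 0, 0, 0, 0, 0, 0, 0, 0, 0, 0, 0, 0, 0, 0, -8, 0, 0, 0, 0, 0],
  [0, 0, 0, 0, 0, 0, 0, 0, 0, 0, 0, 0, 0, 0, 0, 0, 0, 0, 0, 8, 0, 0, 0, 0],
  [0, 0, 0, 0, 0, 0, 0, 0, 0, 0, 0, 0, 0, 0, 0, 0, 0, 0, 0, 0, 8, 0, 0, 0],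
  [0, 0, 0, 0, 0, 0, 0, 0, 0, 0, 0, 0, 0, 0, 0, 0, 0, 0, 0, 0, 0, -8, 0, 0],
  [0, 0, 0, 0, 0, 0, 0, 0, 0, 0, 0, 0, 0, 0, 0, 0, 0, 0, 0, 0, 0, 0, 8, 0],
  [0, 0, 0, 0, 0, 0, 0, 0, 0, 0, 0, 0, 0, 0, 0, 0, 0, 0, 0, 0, 0, 0, 0, 8]]

/-- second sign change -/
def rB : List (List ℤ) := [
  [8, 0, 0, 0, 0, 0, 0, 0, 0, 0, 0, 0, 0, 0, 0, 0, 0, 0, 0, 0, 0, 0, 0, 0],
  [0, -8, 0, 0, 0, 0, 0, 0, 0, 0, 0, 0, 0, 0, 0, 0, 0, 0, 0, 0, 0, 0, 0, 0],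
  [0, 0, 8, 0, 0, 0, 0, 0, 0, 0, 0, 0, 0, 0, 0, 0, 0, 0, 0, 0, 0, 0, 0, 0],
  [0, 0, 0, 8, 0, 0, 0, 0, 0, 0, 0, 0, 0, 0, 0, 0, 0, 0, 0, 0, 0, 0, 0, 0],
  [0, 0, 0, 0, 8, 0, 0, 0, 0, 0, 0, 0, 0, 0, 0, 0, 0, 0, 0, 0, 0, 0, 0, 0],
  [0, 0, 0, 0, 0, 8, 0, 0, 0, 0, 0, 0, 0, 0, 0, 0, 0, 0, 0, 0, 0, 0, 0, 0],
  [0, 0, 0, 0, 0, 0, 8, 0, 0, 0, 0, 0, 0, 0, 0, 0, 0, 0, 0, 0, 0, 0, 0, 0],
  [0, 0, 0, 0, 0, 0, 0, 8, 0, 0, 0, 0, 0, 0, 0, 0, 0, 0, 0, 0, 0, 0, 0, 0],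
  [0, 0, 0, 0, 0, 0, 0, 0, 8, 0, 0, 0, 0, 0, 0, 0, 0, 0, 0, 0, 0, 0, 0, 0],
  [0, 0, 0, 0, 0, 0, 0, 0, 0, 8, 0, 0, 0, 0, 0, 0, 0, 0, 0, 0, 0, 0, 0, 0],
  [0, 0, 0, 0, 0, 0, 0, 0, 0, 0, 8, 0, 0, 0, 0, 0, 0, 0, 0, 0, 0, 0, 0, 0],
  [0, 0, 0, 0, 0, 0, 0, 0, 0, 0, 0, 8, 0, 0, 0, 0, 0, 0, 0, 0, 0, 0, 0, 0],
  [0, 0, 0, 0, 0, 0, 0, 0, 0, 0, 0, 0, -8, 0, 0, 0, 0, 0, 0, 0, 0, 0, 0, 0],
  [0, 0, 0, 0, 0, 0, 0, 0, 0, 0, 0, 0, 0, -8, 0, 0, 0, 0, 0, 0, 0, 0, 0, 0],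
  [0, 0, 0, 0, 0, 0, 0, 0, 0, 0, 0, 0, 0, 0, -8, 0, 0, 0, 0, 0, 0, 0, 0, 0],
  [0, 0, 0, 0, 0, 0, 0, 0, 0, 0, 0, 0, 0, 0, 0, -8, 0, 0, 0, 0, 0, 0, 0, 0],
  [0, 0, 0, 0, 0, 0, 0, 0, 0, 0, 0, 0, 0, 0, 0, 0, -8, 0, 0, 0, 0, 0, 0, 0],
  [0, 0, 0, 0, 0, 0, 0, 0, 0, 0, 0, 0, 0, 0, 0, 0, 0, 8, 0, 0, 0, 0, 0, 0],
  [0, 0, 0, 0, 0, 0, 0, 0, 0, 0, 0, 0, 0, 0, 0, 0, 0, 0, 8, 0, 0, 0, 0, 0],
  [0, 0, 0, 0, 0, 0, 0, 0, 0, 0, 0, 0, 0, 0, 0, 0, 0, 0, 0, -8, 0, 0, 0, 0],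
  [0, 0, 0, 0, 0, 0, 0, 0, 0, 0, 0, 0, 0, 0, 0, 0, 0, 0, 0, 0, 8, 0, 0, 0],
  [0, 0, 0, 0, 0, 0, 0, 0, 0, 0, 0, 0, 0, 0, 0, 0, 0, 0, 0, 0, 0, 8, 0, 0],
  [0, 0, 0, 0, 0, 0, 0, 0, 0, 0, 0, 0, 0, 0, 0, 0, 0, 0, 0, 0, 0, 0, -8, 0],
  [0, 0, 0, 0, 0, 0, 0, 0, 0, 0, 0, 0, 0, 0, 0, 0, 0, 0, 0, 0, 0, 0, 0, 8]]

theorem okS : Ok rS cS := Ok.of_bool (by decide +kernel)
theorem okA : Ok rA rA := Ok.of_bool (by decide +kernel)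
theorem okB : Ok rB rB := Ok.of_bool (by decide +kernel)

/-- the conjugating element -/
def sS : Co0 := SporadicStructure.Co0Matrix.mk okS

theorem repA : Rep (CoGens.sg 1) rA := by
  have h : CoGens.sg 1 = SporadicStructure.Co0Matrix.mk okA := eq_of_fix (Subtype.ext (by
    refine Eq.trans ?_ ((rep_mk okA).apply (v := CoOneType.CoEval.beta) (l := betaL) (by decide) rfl).symm
    funext p
    refine (CoGens.sg_coe (by norm_num) CoOneType.CoEval.beta p).trans ?_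
    rw [beta_coe]
    revert p
    decide +kernel))
  rw [h]
  exact rep_mk okA

theorem repB : Rep (CoGens.sg 2) rB := by
  have h : CoGens.sg 2 = SporadicStructure.Co0Matrix.mk okB := eq_of_fix (Subtype.ext (by
    refine Eq.trans ?_ ((rep_mk okB).apply (v := CoOneType.CoEval.beta) (l := betaL) (by decide) rfl).symm
    funext p
    refine (CoGens.sg_coe (by norm_num) CoOneType.CoEval.beta p).trans ?_
    rw [beta_coe]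
    revert p
    decide +kernel))
  rw [h]
  exact rep_mk okB

/-- the elements -/
noncomputable def ee (i : ℕ) : Co0 :=
  cond (Nat.beq i 0) (CoGens.sg 1) (cond (Nat.beq i 1) (CoGens.sg 2) (cond (Nat.beq i 2) sS sS⁻¹))

/-- the matrices -/
def MM (i : ℕ) : List (List ℤ) := cond (Nat.beq i 0) rA (cond (Nat.beq i 1) rB (cond (Nat.beq i 2) rS cS))

theorem rep : ∀ i, Rep (ee i) (MM i)
  | 0 => repA
  | 1 => repB
  | 2 => rep_mk okS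
  | _ + 3 => rep_inv okS

/-- the letters -/
def aa (i : ℕ) : List ℕ := [[0], [1], [0, 1], [2, 0, 3], [2, 1, 3], [2, 0, 1, 3]].getD i []

/-- the orders of the products -/
def tb (n : ℕ) (i j : Fin 3) : Bool := Nat.beq (([[4, 5, 6], [5, 6, 6], [6, 5, 5]].getD i []).getD j 0) n

private theorem call : (fchk MM aa [2, 3, 1, 4] (3 * 13) true = true) ∧
    (fchk MM aa [2, 3, 1, 4] 3 false = true) ∧
    (fchk MM aa [0, 3, 2, 4, 0, 4] (1 * 23) true = true) ∧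
    (fchk MM aa [0, 3, 2, 4, 0, 4] 1 false = true) ∧
    (∀ i j : Fin 3, fchk MM aa [i, j + 3] 4 (tb 4 i j) = true) ∧
    (∀ i j : Fin 3, fchk MM aa [i, j + 3] 5 (tb 5 i j) = true) := by decide +kernel

theorem c1 : chk MM aa [2, 3, 1, 4] (3 * 13) true = true := chk_of rep call.1
theorem c2 : chk MM aa [2, 3, 1, 4] 3 false = true := chk_of rep call.2.1
theorem c3 : chk MM aa [0, 3, 2, 4, 0, 4] (1 * 23) true = true := chk_of rep call.2.2.1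
theorem c4 : chk MM aa [0, 3, 2, 4, 0, 4] 1 false = true := chk_of rep call.2.2.2.1
theorem c5 : ∀ i j : Fin 3, chk MM aa [i, j + 3] 4 (tb 4 i j) = true := fun i j => chk_of rep (call.2.2.2.2.1 i j)
theorem c6 : ∀ i j : Fin 3, chk MM aa [i, j + 3] 5 (tb 5 i j) = true := fun i j => chk_of rep (call.2.2.2.2.2 i j)
theorem c7 : ∀ a b c d e f : Fin 3, tb 4 0 0 = tb 4 a d → tb 5 1 0 = tb 5 b d → tb 4 2 0 = tb 4 c d →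
    tb 5 2 0 = tb 5 c d → tb 5 0 1 = tb 5 a e → tb 4 0 2 = tb 4 a f → tb 5 0 2 = tb 5 a f →
    a = 0 ∧ b = 1 ∧ c = 2 ∧ d = 0 ∧ e = 1 ∧ f = 2 := by decide +kernel

theorem rigid (hK : AllKnown.{0}) {T : Type*} [Group T] [Finite T] {Q : Subgroup T} {z : T} {eta : T → L2}
    {π : centralizer ({z} : Set T) →* Co1} (ch : MonsterU.Ch.Chart Q z eta π)
    (h552 : ∀ u : T, orderOf u = 23 → Nat.card (centralizer ({u} : Set T)) = 552)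
    {a b s : centralizer ({z} : Set T)} (ha : π a = pr (CoGens.sg 1)) (hb : π b = pr (CoGens.sg 2))
    (hs : π s = pr sS) {h : T}
    (h1 : ∀ i, ∃ j, h * Data.pt (a : T) b i * h⁻¹ = Data.pt (a : T) b j)
    (h2 : ∀ i, ∃ j, ((s : T)⁻¹ * h * s) * Data.pt (a : T) b i * ((s : T)⁻¹ * h * s)⁻¹ = Data.pt (a : T) b j) :
    h = 1 ∨ h = z := by
  let g : ℕ → centralizer ({z} : Set T) := fun i =>
    [a, b, a * b, s * a * s⁻¹, s * b * s⁻¹, s * (a * b) * s⁻¹].getD i 1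
  have e0 : pr (ee 0) = π a := ha.symm
  have e1 : pr (ee 1) = π b := hb.symm
  have e2 : pr (ee 2) = π s := hs.symm
  have e3 : pr (ee 3) = (π s)⁻¹ := by rw [hs]; exact map_inv _ sS
  have hg : ∀ i, π (g i) = lt ee aa i
    | 0 => by
      show π a = pr (ee 0) * 1
      rw [e0, mul_one]
    | 1 => by
      show π b = pr (ee 1) * 1
      rw [e1, mul_one]
    | 2 => by
      show π (a * b) = pr (ee 0) * (pr (ee 1) * 1)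
      rw [e0, e1, mul_one, map_mul]
    | 3 => by
      show π (s * a * s⁻¹) = pr (ee 2) * (pr (ee 0) * (pr (ee 3) * 1))
      rw [e0, e2, e3, mul_one, map_mul, map_mul, map_inv, mul_assoc]
    | 4 => by
      show π (s * b * s⁻¹) = pr (ee 2) * (pr (ee 1) * (pr (ee 3) * 1))
      rw [e1, e2, e3, mul_one, map_mul, map_mul, map_inv, mul_assoc]
    | 5 => by
      show π (s * (a * b) * s⁻¹) = pr (ee 2) * (pr (ee 0) * (pr (ee 1) * (pr (ee 3) * 1)))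
      rw [e0, e1, e2, e3, mul_one, map_mul, map_mul, map_inv, map_mul]
      simp only [mul_assoc]
    | _ + 6 => map_one π
  have hgen : closure (Set.range fun i => π (g i)) = ⊤ := by
    rw [funext hg]
    exact gen_of_chk hK rep c1 c2 c3 c4
  have g1 : ∀ i : Fin 3, (g i : T) = Data.pt (a : T) b i := fun i => by fin_cases i <;> rfl
  have g2 : ∀ i : Fin 3, (g (i + 3) : T) = s * Data.pt (a : T) b i * (s : T)⁻¹ := fun i => by fin_cases i <;> rfl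
  choose σ hσ using h1
  choose τ hτ using h2
  have k1 : ∀ i : Fin 3, h * g i * h⁻¹ = g (σ i) := fun i => by rw [g1, g1, hσ]
  have k2 : ∀ i : Fin 3, h * g (i + 3) * h⁻¹ = g (τ i + 3) := fun i => by rw [g2, g2, ← hτ]; group
  let l : ℕ → ℕ := fun i => [(σ 0 : ℕ), σ 1, σ 2, τ 0 + 3, τ 1 + 3, τ 2 + 3].getD i 6
  have l1 : ∀ i : Fin 3, l i = σ i := fun i => by fin_cases i <;> rfl
  have l2 : ∀ i : Fin 3, l (i + 3) = τ i + 3 := fun i => by fin_cases i <;> rfl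
  have hl : ∀ i, h * g i * h⁻¹ = g (l i)
    | 0 => k1 0
    | 1 => k1 1
    | 2 => k1 2
    | 3 => k2 0
    | 4 => k2 1
    | 5 => k2 2
    | _ + 6 => by
      show h * 1 * h⁻¹ = 1
      rw [mul_one, mul_inv_cancel]
  obtain ⟨k, hk⟩ := fam_norm ch h552 hgen hl
  simp only [hg] at hk
  have t4 : ∀ i j, tb 4 i j = tb 4 (σ i) (τ j) := fun i j =>
    excl rep (σ := l) (c5 i j) (by rw [List.map_cons, List.map_cons, l1, l2]; exact c5 _ _) fun i _ => hk i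
  have t5 : ∀ i j, tb 5 i j = tb 5 (σ i) (τ j) := fun i j =>
    excl rep (σ := l) (c6 i j) (by rw [List.map_cons, List.map_cons, l1, l2]; exact c6 _ _) fun i _ => hk i
  obtain ⟨s0, s1, s2, t0, t1, t2⟩ := c7 _ _ _ _ _ _ (t4 0 0) (t5 1 0) (t4 2 0) (t5 2 0) (t5 0 1) (t4 0 2) (t5 0 2)
  refine fam_cent ch h552 hgen fun i => mul_inv_eq_iff_eq_mul.1 ?_
  match i with
  | 0 => exact (k1 0).trans (by rw [s0]; rfl)
  | 1 => exact (k1 1).trans (by rw [s1]; rfl)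
  | 2 => exact (k1 2).trans (by rw [s2]; rfl)
  | 3 => exact (k2 0).trans (by rw [t0]; rfl)
  | 4 => exact (k2 1).trans (by rw [t1]; rfl)
  | 5 => exact (k2 2).trans (by rw [t2]; rfl)
  | _ + 6 =>
    show h * 1 * h⁻¹ = 1
    rw [mul_one, mul_inv_cancel]

section Four
variable {T X : Type*} [Group T] [Group X] {t a u v : T} {π : centralizer ({t, a} : Set T) →* X}

theorem mem_N [Finite T] (D : Data t a u v π) {n : T} (h1 : n * t * n⁻¹ ∈ D.E) (h2 : n * a * n⁻¹ ∈ D.E) :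
    n ∈ D.N := mem_normalizer_fintype (by
  rintro _ (rfl | rfl | rfl | rfl)
  · rw [mul_one, mul_inv_cancel]
    exact one_mem D.E
  · exact h1
  · exact h2
  · rw [show n * (t * a) * n⁻¹ = n * t * n⁻¹ * (n * a * n⁻¹) by group]
    exact mul_mem h1 h2)

theorem noPair [Finite T] [IsSimpleGroup X] (hX : ¬ (Nat.card X).Prime) (D : Data t a u v π) {s z : T}
    (hz : z * z = 1) (hzC : z ∈ centralizer ({t, a} : Set T)) (hzE : z ∉ D.E)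
    (hs : ∀ h ∈ D.N, s⁻¹ * h * s ∈ D.N → h = 1 ∨ h = z) : NoPairIn D.N := by
  intro A B hA h
  obtain ⟨h1, h2⟩ := small h hA hz hs
  obtain ⟨k, hk, h4⟩ := kernel h.le (C := centralizer ({t, a} : Set T)) (fun c hc => mem_N D
      (by rw [(mem_cent.1 hc).1, mul_inv_cancel_right]; exact D.t_mem)
      (by rw [(mem_cent.1 hc).2, mul_inv_cancel_right]; exact D.a_mem))
    hzC h1 h2 (N3A.nonab hX) π D.surj fun hc => hzE ((D.ker _).1 hc)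
  have hu : u ∈ D.N := mem_N D (by rw [D.ut]; exact D.a_mem) (by rw [D.ua]; exact D.t_mem)
  have hv : v ∈ D.N := mem_N D (by rw [D.vt]; exact D.t_mem) (by rw [D.va]; exact D.ta_mem)
  have hvta : v * (t * a) * v⁻¹ = a := by
    rw [show v * (t * a) * v⁻¹ = v * t * v⁻¹ * (v * a * v⁻¹) by group, D.vt, D.va, D.tta]
  have key : (∀ n ∈ D.N, n * a * n⁻¹ ∈ A ∧ n * a * n⁻¹ ∉ B) → False := fun h5 => by
    have k1 := h5 1 (one_mem _)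
    have k2 := h5 u hu
    have k3 := h5 v hv
    rw [one_mul, inv_one, mul_one] at k1
    rw [D.ua] at k2
    rw [D.va] at k3
    exact k3.2 (h2 _ k2.1 _ k1.1 k2.2 k1.2)
  rcases (D.ker k).1 hk with e | e | e | e <;> rw [e] at h4
  · exact (h4 1 (one_mem _)).2 (by simp)
  · refine key fun n hn => ?_
    rw [← D.ut, show n * (u * t * u⁻¹) * n⁻¹ = n * u * t * (n * u)⁻¹ by group]
    exact h4 _ (mul_mem hn hu)
  · exact key h4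
  · refine key fun n hn => ?_
    have h5 := h4 _ (mul_mem hn hv)
    rwa [show n * v * (t * a) * (n * v)⁻¹ = n * (v * (t * a) * v⁻¹) * n⁻¹ by group, hvta] at h5

end Four

theorem exists_data {a b : MG} (ha : IsA zz a) (hb : IsA zz b) (hab : IsA zz (a * b)) (hc : a * b = b * a) :
    ∃ (X : Type) (_ : Group X) (_ : IsSimpleGroup X) (u v : MG) (π : centralizer ({a, b} : Set MG) →* X),
      ¬ (Nat.card X).Prime ∧ Data a b u v π := by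
  haveI := BpSpor.MBigModel.finite
  have hp : Fact (Nat.Prime 2) := ⟨Nat.prime_two⟩
  letI hfin : Fintype (GaloisField 2 2) := Fintype.ofFinite _
  have hF : Fintype.card (GaloisField 2 2) = 4 := by
    rw [← Nat.card_eq_fintype_card, GaloisField.card 2 2 (by norm_num)]; norm_num
  obtain ⟨t, d, u, v, π, D⟩ : ∃ (t d u v : MG) (π : centralizer ({t, d} : Set MG) →*
      Lie.twistedE6 (GaloisField 2 2) 2), Data t d u v π :=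
    H849.FourModel.exists_data MonsterN.LitFin.all KDone.lnk KDone.lft
      (MonsterU.TauInst.tauHyp (MonsterU.Final.cent InstanceFinal.mOrbit Instance.mTrans))
      (MonsterP.NodesGrp.prel MonsterN.LitFin.H) (MonsterP.NodesNe.ne MonsterN.LitFin.H)
      MonsterN.LitFin.conj_ten (GaloisField 2 2) hF
  have hE : Nat.card (Lie.twistedE6 (GaloisField 2 2) 2) = 76532479683774853939200 :=
    BM.HBFinal.card_E (GaloisField 2 2) hF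
  have h19 : 19 ∣ Nat.card (centralizer ({t, d} : Set MG)) := by
    have h3 := π.ker.card_mul_index
    rw [Subgroup.index_ker, MonoidHom.range_eq_top.2 D.surj, Subgroup.card_top, hE] at h3
    rw [← h3]
    exact Dvd.dvd.mul_left (by norm_num) _
  have ht : ∀ g : MG, g * zz * g⁻¹ ≠ t := fun g hg => by
    have h4 := h19.trans (card_dvd_of_le (centralizer_le (show ({t} : Set MG) ⊆ {t, d} by simp)))
    rw [BpSpor.card_cent_of_conj hg, MonsterU.AmalElts.card_centralizer chart] at h4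
    norm_num at h4
  have hd : ∀ g : MG, g * zz * g⁻¹ ≠ d := fun g hg => ht (u * g) (by rw [← D.ua, ← hg]; group)
  have htd : ∀ g : MG, g * zz * g⁻¹ ≠ t * d := fun g hg => hd (v⁻¹ * g) (by
    calc v⁻¹ * g * zz * (v⁻¹ * g)⁻¹ = v⁻¹ * (g * zz * g⁻¹) * v := by group
      _ = d := by rw [hg, ← D.va]; group)
  obtain ⟨c, rfl, rfl⟩ := afacts_model.pair t d a b ⟨D.tt, D.t1, fun ⟨g, hg⟩ => ht g hg⟩
    ⟨D.aa, D.a1, fun ⟨g, hg⟩ => hd g hg⟩ ⟨D.tata, D.ta1, fun ⟨g, hg⟩ => htd g hg⟩ D.ta ha hb hab hc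
  obtain ⟨π', D'⟩ := D.exists_map (MulAut.conj c)
  exact ⟨_, inferInstance, MonsterN.EInst.isSimple (GaloisField 2 2) hF, _, _, π', by rw [hE]; norm_num, D'⟩

theorem tr1 : trw [25] 1 28052 23680 = true := by decide +kernel
theorem tr2 : trw [26] 1 28052 23680 = true := by decide +kernel
theorem tr3 : trw [26, 25] 1 28052 23680 = true := by decide +kernel
theorem cm : Conc.W [25, 26] = Conc.W [26, 25] := ConcMono.W_eq_of_same (by decide +kernel)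

theorem isA_gw {w : List ℕ} (h : w.all ConcGrp.inN = true) (ht : trw w 1 28052 23680 = true)
    (h2 : gw w h * gw w h = 1) : IsA zz (gw w h) := by
  have h1 := chr_gw h ht
  rw [pow_one] at h1
  refine ⟨h2, fun e => ?_, fun ⟨g, hg⟩ => ?_⟩
  · rw [e, TAB.M4.chr_one] at h1
    norm_num at h1
  · rw [← hg, LThreeMBTr.chr_conj, chr_zz] at h1
    norm_num at h1

theorem pi_gw {i : ℕ} (hi : i < 12) (h : [24 + i].all ConcGrp.inN = true) :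
    BpSpor.MBigModel.pi ⟨gw [24 + i] h, mem_centralizer_singleton_iff.2 (gw_comm h)⟩ = pr (CoGens.sg i) := by
  have h1 := KAsm.act_E KDone.R (n := 24 + i) (by omega)
  rw [CoGens.A_sg hi, ← Conc.W_single] at h1
  exact LThreeMB.KChart.pi_eq LThreeB.Row.cent (A := CoGens.sg i) h1.act_u

/-- **Box `N2A2`.** -/
theorem boxN2A2 (hK : AllKnown.{0}) : BoxN2A2 := by
  haveI := BpSpor.MBigModel.finite
  obtain ⟨a, b, ha, hb, hab, hc, πa, πb⟩ : ∃ a b : centralizer ({zz} : Set MG), IsA zz (a : MG) ∧ IsA zz (b : MG) ∧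
      IsA zz ((a : MG) * b) ∧ (a : MG) * b = b * a ∧ BpSpor.MBigModel.pi a = pr (CoGens.sg 1) ∧
      BpSpor.MBigModel.pi b = pr (CoGens.sg 2) := by
    have e1 : gw [25] (by decide) * gw [25] (by decide) = 1 := Subtype.ext (by
      show Conc.W [25] * Conc.W [25] = 1
      rw [Conc.W_single]
      exact ConcMono.sq_letter (by norm_num))
    have e2 : gw [26] (by decide) * gw [26] (by decide) = 1 := Subtype.ext (by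
      show Conc.W [26] * Conc.W [26] = 1
      rw [Conc.W_single]
      exact ConcMono.sq_letter (by norm_num))
    have e3 : gw [25] (by decide) * gw [26] (by decide) = gw [26, 25] (by decide) :=
      Subtype.ext (Conc.W_append [26] [25]).symm
    have e4 : gw [25] (by decide) * gw [26] (by decide) = gw [26] (by decide) * gw [25] (by decide) :=
      Subtype.ext ((Conc.W_append [26] [25]).symm.trans (cm.symm.trans (Conc.W_append [25] [26])))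
    refine ⟨⟨_, mem_centralizer_singleton_iff.2 (gw_comm (w := [25]) (by decide))⟩,
      ⟨_, mem_centralizer_singleton_iff.2 (gw_comm (w := [26]) (by decide))⟩, isA_gw _ tr1 e1, isA_gw _ tr2 e2, ?_, e4,
      pi_gw (i := 1) (by norm_num) _, pi_gw (i := 2) (by norm_num) _⟩
    refine e3.symm ▸ isA_gw _ tr3 ?_
    rw [← e3, mul_assoc, ← mul_assoc (gw [26] _), ← e4, mul_assoc, e2, mul_one, e1]
  obtain ⟨s, hs⟩ := chart.pi_surj (pr sS)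
  obtain ⟨X, _, _, u, v, π, hX, D⟩ := exists_data ha hb hab hc
  have hz : ∀ {x : MG}, IsA zz x → zz ≠ x := fun hx e => hx.2.2 ⟨1, by rw [← e]; simp⟩
  have hN := noPair (s := (s : MG)) hX D chart.large.z_sq
    (mem_cent.2 ⟨(mem_centralizer_singleton_iff.1 a.2).symm, (mem_centralizer_singleton_iff.1 b.2).symm⟩)
    (by
      rintro (e | e | e | e)
      exacts [chart.large.z_ne e, hz ha e, hz hb e, hz hab e])
    fun h h1 h2 => rigid hK chart (c552 hK) πa πb hs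
      (fun i => let ⟨j, hj⟩ := D.conj_ex ⟨h, h1⟩ i; ⟨j, hj.symm⟩)
      (fun i => let ⟨j, hj⟩ := D.conj_ex ⟨_, h2⟩ i; ⟨j, hj.symm⟩)
  intro x y hx hy hxy hc'
  obtain ⟨c, rfl, rfl⟩ := afacts_model.pair _ _ x y ha hb hab hc (isA_of_ta hx) (isA_of_ta hy) (isA_of_ta hxy) hc'
  have hm : ∀ w : MG, w ∈ closure ({c * a * c⁻¹, c * b * c⁻¹} : Set MG) → c⁻¹ * w * c ∈ D.E := fun w hw => by
    have : closure ({c * a * c⁻¹, c * b * c⁻¹} : Set MG) ≤ D.E.map (MulAut.conj c).toMonoidHom :=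
      (closure_le _).2 (by
        rintro _ (rfl | rfl)
        exacts [⟨_, D.t_mem, rfl⟩, ⟨_, D.a_mem, rfl⟩])
    exact mem_map_conj.1 (this hw)
  refine hN.of_conj c fun n hn => mem_N D ?_ ?_
  · rw [show c⁻¹ * n * c * a * (c⁻¹ * n * c)⁻¹ = c⁻¹ * (n * (c * a * c⁻¹) * n⁻¹) * c by group]
    exact hm _ ((mem_normalizer_iff.1 hn _).1 (subset_closure (Or.inl rfl)))
  · rw [show c⁻¹ * n * c * b * (c⁻¹ * n * c)⁻¹ = c⁻¹ * (n * (c * b * c⁻¹) * n⁻¹) * c by group]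
    exact hm _ ((mem_normalizer_iff.1 hn _).1 (subset_closure (Or.inr rfl)))

end Cfsg.Agent.SP.Mon.Cert.N2A2
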